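import Mathlib

/-!
A directed family of subschemes which exhausts all infinitesimal neighbourhoods of points is eventually everything.
-/

set_option autoImplicit false
set_option linter.style.haveILetI false
set_option linter.unusedSectionVars false
set_option backward.isDefEq.respectTransparency false
set_option backward.isDefEq.respectTransparency.types false

universe u

open CategoryTheory CategoryTheory.Limits AlgebraicGeometry TopologicalSpace Opposite

noncomputable section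

namespace Groth.Agent.FiltSub

/-- Directed decreasing ideals of a Noetherian ring, eventually inside every power of every local maximal ideal, vanish
eventually. -/
theorem exists_eq_bot {A : Type u} [CommRing A] [IsNoetherianRing A] {D : Type*} [Preorder D]
    [IsDirected D (fun a b => a ≤ b)] [Nonempty D] (J : D → Ideal A) (hJ : ∀ i j, i ≤ j → J j ≤ J i)
    (h : ∀ (p : Ideal A) [p.IsPrime] (n : ℕ), ∃ i, (J i).map (algebraMap A (Localization.AtPrime p)) ≤
      IsLocalRing.maximalIdeal (Localization.AtPrime p) ^ n) :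
    ∃ i, J i = ⊥ := by
  classical
  obtain ⟨_, ⟨i, rfl⟩, hmax⟩ := (IsWellFounded.wf (r := ((· > ·) : Ideal A → Ideal A → Prop))).has_min
    (Set.range fun i => Submodule.annihilator (J i)) (Set.range_nonempty _)
  refine ⟨i, ?_⟩
  by_contra hne
  have hstab : ∀ j, i ≤ j → Submodule.annihilator (J j) = Submodule.annihilator (J i) := fun j hij => by
    refine (eq_of_le_of_not_lt (Submodule.annihilator_mono (hJ i j hij)) ?_).symm
    exact hmax _ ⟨j, rfl⟩
  have hne' : Submodule.annihilator (J i) ≠ ⊤ := fun ht => hne (Submodule.annihilator_eq_top_iff.1 ht)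
  obtain ⟨m, hm, hle⟩ := Ideal.exists_le_maximal _ hne'
  obtain ⟨p, hp, -⟩ := Ideal.exists_minimalPrimes_le (I := Submodule.annihilator (J i)) hle
  haveI := hp.1.1
  let R := Localization.AtPrime p
  haveI : IsNoetherianRing R := IsLocalization.isNoetherianRing p.primeCompl R inferInstance
  let M := IsLocalRing.maximalIdeal R
  let a := (Submodule.annihilator (J i)).map (algebraMap A R)
  have hrad : M ≤ a.radical := by
    rw [Ideal.radical_eq_sInf]
    refine le_sInf ?_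
    rintro Q ⟨haQ, hQ⟩
    have h1 : Submodule.annihilator (J i) ≤ Q.comap (algebraMap A R) := Ideal.map_le_iff_le_comap.1 haQ
    have h2 : Q.comap (algebraMap A R) ≤ p :=
      (Ideal.comap_mono (IsLocalRing.le_maximalIdeal hQ.ne_top)).trans
        (Localization.AtPrime.under_maximalIdeal (I := p)).le
    haveI := hQ
    have h3 : p ≤ Q.comap (algebraMap A R) := hp.2 ⟨inferInstance, h1⟩ h2
    show IsLocalRing.maximalIdeal (Localization.AtPrime p) ≤ Q
    rw [← Localization.AtPrime.map_eq_maximalIdeal]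
    exact Ideal.map_le_iff_le_comap.2 h3
  obtain ⟨c, hc⟩ := Ideal.exists_radical_pow_le_of_fg a ((isNoetherianRing_iff_ideal_fg R).1 inferInstance _)
  have hkill : M ^ c * (J i).map (algebraMap A R) = ⊥ := by
    refine le_bot_iff.1 ((Ideal.mul_mono_left ((Ideal.pow_right_mono hrad c).trans hc)).trans ?_)
    rw [← Ideal.map_mul, le_bot_iff, Ideal.map_eq_bot_iff_le_ker]
    refine Ideal.mul_le.2 fun r hr x hx => ?_
    rw [RingHom.mem_ker, show r * x = 0 from Submodule.mem_annihilator.1 hr x hx, map_zero]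
  obtain ⟨k, hk⟩ := Ideal.exists_pow_inf_eq_pow_smul M ((J i).map (algebraMap A R) : Submodule R R)
  obtain ⟨l, hl⟩ := h p (k + c)
  obtain ⟨j, hij, hlj⟩ := directed_of (fun a b => a ≤ b) i l
  have hzero : (J j).map (algebraMap A R) = ⊥ := by
    refine le_bot_iff.1 ?_
    calc (J j).map (algebraMap A R) ≤ M ^ (k + c) • ⊤ ⊓ (J i).map (algebraMap A R) := by
          refine le_inf ?_ (Ideal.map_mono (hJ i j hij))
          rw [smul_eq_mul, Ideal.mul_top]
          exact (Ideal.map_mono (hJ l j hlj)).trans hl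
      _ = M ^ c • (M ^ k • ⊤ ⊓ (J i).map (algebraMap A R)) := by
          rw [hk (k + c) (Nat.le_add_right k c), Nat.add_sub_cancel_left]
      _ ≤ M ^ c • (J i).map (algebraMap A R) := Submodule.smul_mono le_rfl inf_le_right
      _ = ⊥ := by rw [smul_eq_mul, hkill]
  obtain ⟨s, hs⟩ : ∃ s : Finset A, Ideal.span (s : Set A) = J j := (isNoetherianRing_iff_ideal_fg A).1 inferInstance _
  have hex : ∀ x ∈ s, ∃ t : p.primeCompl, (t : A) * x = 0 := fun x hx => by
    refine (IsLocalization.map_eq_zero_iff p.primeCompl R x).1 ?_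
    rw [← Ideal.mem_bot, ← hzero]
    exact Ideal.mem_map_of_mem _ (hs ▸ Ideal.subset_span hx)
  choose t ht using hex
  let T : A := ∏ x : s, (t x.1 x.2 : A)
  have hTp : T ∉ p := fun hT => by
    obtain ⟨x, -, hx⟩ := (‹p.IsPrime›.prod_mem_iff).1 hT
    exact (t x.1 x.2).2 hx
  have hTj : T ∈ Submodule.annihilator (J j) := by
    rw [← hs, Ideal.span, Submodule.mem_annihilator_span]
    rintro ⟨x, hx⟩
    obtain ⟨w, hw⟩ := Finset.dvd_prod_of_mem (fun y : s => (t y.1 y.2 : A)) (Finset.mem_univ ⟨x, hx⟩)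
    show T * x = 0
    rw [show T = t x hx * w from hw, mul_right_comm, ht x hx, zero_mul]
  exact hTp (hp.1.2 (hstab j hij ▸ hTj))

/-- A directed family of locally closed sets covering a Noetherian space has a member equal to the space. -/
theorem exists_univ {X : Type*} [TopologicalSpace X] [NoetherianSpace X] [QuasiSober X] {D : Type*} [Preorder D]
    [IsDirected D (fun a b => a ≤ b)] [Nonempty D] (R : D → Set X) (hR : ∀ i j, i ≤ j → R i ⊆ R j)
    (hlc : ∀ i, IsLocallyClosed (R i)) (h : ∀ x, ∃ i, x ∈ R i) : ∃ i, R i = Set.univ := by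
  suffices H : ∀ Z : Closeds X, ∃ i, (Z : Set X) ⊆ R i by
    obtain ⟨i, hi⟩ := H ⊤
    exact ⟨i, Set.univ_subset_iff.1 hi⟩
  intro Z
  induction Z using WellFoundedLT.induction with
  | _ Z ih =>
    by_cases hirr : IsIrreducible (Z : Set X)
    · obtain ⟨η, hη⟩ := QuasiSober.sober hirr Z.2
      obtain ⟨i, hi⟩ := h η
      obtain ⟨O, C, hO, hC, hOC⟩ := hlc i
      have hi' : η ∈ O ∩ C := hOC ▸ hi
      have hZC : (Z : Set X) ⊆ C := by
        rw [← hη.def]
        exact closure_minimal (Set.singleton_subset_iff.2 hi'.2) hC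
      let W : Closeds X := ⟨(Z : Set X) \ O, Z.2.sdiff hO⟩
      have hW : W < Z := by
        refine lt_of_le_of_ne (fun y hy => hy.1) fun e => ?_
        have h1 : η ∈ (W : Set X) := by rw [e]; exact hη.mem
        exact h1.2 hi'.1
      obtain ⟨j, hj⟩ := ih W hW
      obtain ⟨l, hil, hjl⟩ := directed_of (fun a b => a ≤ b) i j
      refine ⟨l, fun y hy => ?_⟩
      by_cases hyO : y ∈ O
      · exact hR i l hil (hOC.symm ▸ (⟨hyO, hZC hy⟩ : y ∈ O ∩ C))
      · exact hR j l hjl (hj ⟨hy, hyO⟩)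
    · rcases Set.eq_empty_or_nonempty (Z : Set X) with he | he
      · exact ⟨Classical.arbitrary D, he ▸ Set.empty_subset _⟩
      have hpre : ¬ IsPreirreducible (Z : Set X) := fun hp => hirr ⟨he, hp⟩
      rw [isPreirreducible_iff_isClosed_union_isClosed] at hpre
      push Not at hpre
      obtain ⟨z₁, z₂, h1, h2, h12, hn1, hn2⟩ := hpre
      obtain ⟨i, hi⟩ := ih (Z ⊓ ⟨z₁, h1⟩) (lt_of_le_of_ne inf_le_left fun e => hn1 fun y hy => by
        have : y ∈ ((Z ⊓ ⟨z₁, h1⟩ : Closeds X) : Set X) := by rw [e]; exact hy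
        exact this.2)
      obtain ⟨j, hj⟩ := ih (Z ⊓ ⟨z₂, h2⟩) (lt_of_le_of_ne inf_le_left fun e => hn2 fun y hy => by
        have : y ∈ ((Z ⊓ ⟨z₂, h2⟩ : Closeds X) : Set X) := by rw [e]; exact hy
        exact this.2)
      obtain ⟨l, hil, hjl⟩ := directed_of (fun a b => a ≤ b) i j
      refine ⟨l, fun y hy => ?_⟩
      rcases h12 hy with hy1 | hy2
      · exact hR i l hil (hi ⟨hy, hy1⟩)
      · exact hR j l hjl (hj ⟨hy, hy2⟩)

/-- Sections killed at an infinitesimal neighbourhood. -/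
theorem appLE_quot {X : Scheme.{u}} {U : X.Opens} {ξ : X} (hξ : ξ ∈ U) (Q : CommRingCat.{u})
    (φ : X.presheaf.stalk ξ ⟶ Q) (e : (⊤ : (Spec Q).Opens) ≤ (Spec.map φ ≫ X.fromSpecStalk ξ) ⁻¹ᵁ U) :
    (Spec.map φ ≫ X.fromSpecStalk ξ).appLE U ⊤ e = X.presheaf.germ U ξ hξ ≫ φ ≫ (Scheme.ΓSpecIso Q).inv := by
  rw [Scheme.Hom.comp_appLE, Scheme.fromSpecStalk_app hξ]
  simp only [Category.assoc, Scheme.Hom.map_appLE]
  congr 1
  rw [Scheme.ΓSpecIso_inv_naturality]
  congr 1

/-- A neighbourhood of finite order of a point factors through a member of the family. -/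
theorem exists_test {S X : Scheme.{u}} (f : X ⟶ S) {D : Type u} (Xi : D → Scheme.{u}) (x : ∀ i, Xi i ⟶ X)
    (h : ∀ (s : S) (n : ℕ), ∃ i : D, IsIso (pullback.snd (x i) (pullback.fst f (Spec.map (CommRingCat.ofHom
      (Ideal.Quotient.mk (IsLocalRing.maximalIdeal (S.presheaf.stalk s) ^ (n + 1)))) ≫ S.fromSpecStalk s))))
    (ξ : X) (n : ℕ) :
    ∃ (i : D) (w : Spec (CommRingCat.of (X.presheaf.stalk ξ ⧸ IsLocalRing.maximalIdeal (X.presheaf.stalk ξ) ^ (n + 1))) ⟶ Xi i),
      w ≫ x i = Spec.map (CommRingCat.ofHom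
        (Ideal.Quotient.mk (IsLocalRing.maximalIdeal (X.presheaf.stalk ξ) ^ (n + 1)))) ≫ X.fromSpecStalk ξ := by
  obtain ⟨i, hi⟩ := h (f ξ) n
  let mS := IsLocalRing.maximalIdeal (S.presheaf.stalk (f ξ)) ^ (n + 1)
  let mX := IsLocalRing.maximalIdeal (X.presheaf.stalk ξ) ^ (n + 1)
  have hle : mS ≤ mX.comap (f.stalkMap ξ).hom := by
    rw [← Ideal.map_le_iff_le_comap, Ideal.map_pow]
    have hm : (IsLocalRing.maximalIdeal (S.presheaf.stalk (f ξ))).map (f.stalkMap ξ).hom ≤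
        IsLocalRing.maximalIdeal (X.presheaf.stalk ξ) :=
      Ideal.map_le_iff_le_comap.2 fun z hz => map_nonunit (f.stalkMap ξ).hom z hz
    exact Ideal.pow_right_mono hm _
  let ψ : CommRingCat.of (S.presheaf.stalk (f ξ) ⧸ mS) ⟶ CommRingCat.of (X.presheaf.stalk ξ ⧸ mX) :=
    CommRingCat.ofHom (Ideal.quotientMap mX (f.stalkMap ξ).hom hle)
  have hw : (Spec.map (CommRingCat.ofHom (Ideal.Quotient.mk mX)) ≫ X.fromSpecStalk ξ) ≫ f =
      Spec.map ψ ≫ Spec.map (CommRingCat.ofHom (Ideal.Quotient.mk mS)) ≫ S.fromSpecStalk (f ξ) := by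
    rw [Category.assoc, ← Scheme.SpecMap_stalkMap_fromSpecStalk, ← Spec.map_comp_assoc, ← Spec.map_comp_assoc]
    congr 2
  let g := pullback.fst f (Spec.map (CommRingCat.ofHom (Ideal.Quotient.mk mS)) ≫ S.fromSpecStalk (f ξ))
  let τ := pullback.lift (Spec.map (CommRingCat.ofHom (Ideal.Quotient.mk mX)) ≫ X.fromSpecStalk ξ) (Spec.map ψ) hw
  haveI : IsIso (pullback.snd (x i) g) := hi
  refine ⟨i, τ ≫ inv (pullback.snd (x i) g) ≫ pullback.fst (x i) g, ?_⟩
  rw [Category.assoc, Category.assoc, pullback.condition, IsIso.inv_hom_id_assoc]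
  exact pullback.lift_fst _ _ _

/-- Sections of the ideal die in the neighbourhood. -/
theorem germ_mem {X Y : Scheme.{u}} (y : Y ⟶ X) [IsClosedImmersion y] (ξ : X) (n : ℕ)
    (w : Spec (CommRingCat.of (X.presheaf.stalk ξ ⧸ IsLocalRing.maximalIdeal (X.presheaf.stalk ξ) ^ (n + 1))) ⟶ Y)
    (hw : w ≫ y = Spec.map (CommRingCat.ofHom
      (Ideal.Quotient.mk (IsLocalRing.maximalIdeal (X.presheaf.stalk ξ) ^ (n + 1)))) ≫ X.fromSpecStalk ξ)
    (U : X.affineOpens) (hξ : ξ ∈ U.1) (a : Γ(X, U.1)) (ha : a ∈ y.ker.ideal U) :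
    X.presheaf.germ U.1 ξ hξ a ∈ IsLocalRing.maximalIdeal (X.presheaf.stalk ξ) ^ (n + 1) := by
  let φ : X.presheaf.stalk ξ ⟶ CommRingCat.of (X.presheaf.stalk ξ ⧸ IsLocalRing.maximalIdeal (X.presheaf.stalk ξ) ^ (n + 1)) :=
    CommRingCat.ofHom (Ideal.Quotient.mk _)
  have e1 : (⊤ : (Spec (CommRingCat.of (X.presheaf.stalk ξ ⧸ IsLocalRing.maximalIdeal (X.presheaf.stalk ξ) ^ (n + 1)))).Opens) ≤
      (Spec.map φ ≫ X.fromSpecStalk ξ) ⁻¹ᵁ U.1 := by
    intro z _
    show X.fromSpecStalk ξ (Spec.map φ z) ∈ U.1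
    have h1 : X.fromSpecStalk ξ (Spec.map φ z) ⤳ ξ := by
      have : X.fromSpecStalk ξ (Spec.map φ z) ∈ Set.range (X.fromSpecStalk ξ) := ⟨_, rfl⟩
      rwa [Scheme.range_fromSpecStalk] at this
    exact h1.mem_open U.1.2 hξ
  have hy : y.app U.1 a = 0 := by
    have : a ∈ RingHom.ker (y.app U.1).hom := by rwa [← Scheme.Hom.ker_apply]
    exact this
  have key : ∀ (τ : Spec (CommRingCat.of (X.presheaf.stalk ξ ⧸ IsLocalRing.maximalIdeal (X.presheaf.stalk ξ) ^ (n + 1))) ⟶ X)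
      (_ : τ = w ≫ y) (e : ⊤ ≤ τ ⁻¹ᵁ U.1), τ.appLE U.1 ⊤ e a = 0 := by
    rintro _ rfl e
    rw [Scheme.Hom.comp_appLE]
    show w.appLE _ _ _ (y.app U.1 a) = 0
    rw [hy, map_zero]
  have h0 := key _ hw.symm e1
  rw [appLE_quot hξ _ φ e1] at h0
  have h2 := (ConcreteCategory.bijective_of_isIso (Scheme.ΓSpecIso _).inv).1
    (h0.trans (map_zero (Scheme.ΓSpecIso _).inv.hom).symm)
  exact Ideal.Quotient.eq_zero_iff_mem.1 h2

/-- Moving a power of the maximal ideal to the localization. -/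
theorem algebraMap_mem {A O : Type u} [CommRing A] (p : Ideal A) [p.IsPrime] [CommRing O] [IsLocalRing O] [Algebra A O]
    [IsLocalization.AtPrime O p] (n : ℕ) (a : A) (ha : algebraMap A O a ∈ IsLocalRing.maximalIdeal O ^ n) :
    algebraMap A (Localization.AtPrime p) a ∈ IsLocalRing.maximalIdeal (Localization.AtPrime p) ^ n := by
  let e := IsLocalization.algEquiv p.primeCompl O (Localization.AtPrime p)
  have h3 : e.toRingEquiv.toRingHom (algebraMap A O a) ∈ (IsLocalRing.maximalIdeal O ^ n).map e.toRingEquiv.toRingHom :=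
    Ideal.mem_map_of_mem _ ha
  rw [Ideal.map_pow] at h3
  have h4 : (IsLocalRing.maximalIdeal O).map e.toRingEquiv.toRingHom ≤
      IsLocalRing.maximalIdeal (Localization.AtPrime p) :=
    Ideal.map_le_iff_le_comap.2 fun z hz =>
      (IsLocalRing.mem_maximalIdeal _).2 fun hu => (IsLocalRing.mem_maximalIdeal _).1 hz
        (by simpa using hu.map e.toRingEquiv.symm.toRingHom)
  have h5 : e.toRingEquiv.toRingHom (algebraMap A O a) = algebraMap A (Localization.AtPrime p) a := e.commutes a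
  exact h5 ▸ Ideal.pow_right_mono h4 n h3

/-- On every affine open the ideals vanish eventually. -/
theorem exists_ideal_eq_bot {S X : Scheme.{u}} (f : X ⟶ S) [IsLocallyNoetherian X] {D : Type u} [Preorder D]
    [IsDirected D (fun a b => a ≤ b)] (Xi : D → Scheme.{u}) (x : ∀ i, Xi i ⟶ X)
    (hmono : ∀ i j, i ≤ j → ∃ t : Xi i ⟶ Xi j, t ≫ x j = x i)
    (h : ∀ (s : S) (n : ℕ), ∃ i : D, IsIso (pullback.snd (x i) (pullback.fst f (Spec.map (CommRingCat.ofHom
      (Ideal.Quotient.mk (IsLocalRing.maximalIdeal (S.presheaf.stalk s) ^ (n + 1)))) ≫ S.fromSpecStalk s))))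
    (i₀ : D) (hci : ∀ j, i₀ ≤ j → IsClosedImmersion (x j)) (U : X.affineOpens) :
    ∃ i, i₀ ≤ i ∧ (x i).ker.ideal U = ⊥ := by
  haveI : IsNoetherianRing Γ(X, U.1) := IsLocallyNoetherian.component_noetherian U
  let D' := {i : D // i₀ ≤ i}
  haveI : Nonempty D' := ⟨⟨i₀, le_rfl⟩⟩
  haveI : IsDirected D' (fun a b => a ≤ b) := ⟨fun a b => by
    obtain ⟨c, hac, hbc⟩ := directed_of (fun a b => a ≤ b) a.1 b.1
    exact ⟨⟨c, a.2.trans hac⟩, hac, hbc⟩⟩
  obtain ⟨i, hi⟩ := exists_eq_bot (fun i : D' => (x i.1).ker.ideal U) (fun i j hij => by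
    obtain ⟨t, ht⟩ := hmono i.1 j.1 hij
    haveI := hci i.1 i.2
    haveI := hci j.1 j.2
    have h1 : (x j.1).ker ≤ (x i.1).ker := by rw [← ht]; exact Scheme.Hom.le_ker_comp _ _
    exact h1 U) fun p _ n => by
    let P : PrimeSpectrum Γ(X, U.1) := ⟨p, inferInstance⟩
    let ξ : X := U.2.fromSpec P
    have hξ : ξ ∈ U.1 := by
      have : ξ ∈ Set.range U.2.fromSpec := ⟨P, rfl⟩
      rwa [U.2.range_fromSpec] at this
    obtain ⟨i, w, hw⟩ := exists_test f Xi x h ξ n
    obtain ⟨j, hij, hj0⟩ := directed_of (fun a b => a ≤ b) i i₀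
    refine ⟨⟨j, hj0⟩, ?_⟩
    obtain ⟨t, ht⟩ := hmono i j hij
    haveI := hci j hj0
    letI := X.presheaf.algebra_section_stalk (⟨ξ, hξ⟩ : U.1)
    haveI : IsLocalization.AtPrime (X.presheaf.stalk ξ) p := by
      have h1 := U.2.isLocalization_stalk ⟨ξ, hξ⟩
      have h2 : U.2.primeIdealOf ⟨ξ, hξ⟩ = P := U.2.fromSpec.isOpenEmbedding.injective
        (U.2.fromSpec_primeIdealOf ⟨ξ, hξ⟩)
      rw [h2] at h1
      exact h1
    refine Ideal.map_le_iff_le_comap.2 fun a ha => ?_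
    have hgerm := germ_mem (x j) ξ n (w ≫ t) (by rw [Category.assoc, ht, hw]) U hξ a ha
    exact Ideal.pow_le_pow_right (Nat.le_succ n) (algebraMap_mem (O := X.presheaf.stalk ξ) p (n + 1) a hgerm)
  exact ⟨i.1, i.2, hi⟩

/-- The theorem, for schemes. -/
theorem exists_isIso {S X : Scheme.{u}} (f : X ⟶ S) [IsLocallyNoetherian X] [CompactSpace X] {D : Type u} [Preorder D]
    [IsDirected D (fun a b => a ≤ b)] [Nonempty D] (Xi : D → Scheme.{u}) (x : ∀ i, Xi i ⟶ X)
    (hx : ∀ i, IsImmersion (x i)) (hmono : ∀ i j, i ≤ j → ∃ t : Xi i ⟶ Xi j, t ≫ x j = x i)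
    (h : ∀ (s : S) (n : ℕ), ∃ i : D, IsIso (pullback.snd (x i) (pullback.fst f (Spec.map (CommRingCat.ofHom
      (Ideal.Quotient.mk (IsLocalRing.maximalIdeal (S.presheaf.stalk s) ^ (n + 1)))) ≫ S.fromSpecStalk s)))) :
    ∃ i : D, IsIso (x i) := by
  classical
  haveI : IsNoetherian X := {}
  have hrange : ∀ i j, i ≤ j → Set.range (x i) ⊆ Set.range (x j) := by
    intro i j hij
    obtain ⟨t, ht⟩ := hmono i j hij
    rintro _ ⟨y, rfl⟩
    exact ⟨t y, by rw [← ht]; rfl⟩
  obtain ⟨i₀, hi₀⟩ := exists_univ (fun i => Set.range (x i)) hrange (fun i => (hx i).isLocallyClosed_range) fun ξ => by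
    obtain ⟨i, w, hw⟩ := exists_test f Xi x h ξ 0
    let mX := IsLocalRing.maximalIdeal (X.presheaf.stalk ξ) ^ (0 + 1)
    haveI : Nontrivial (X.presheaf.stalk ξ ⧸ mX) := Ideal.Quotient.nontrivial_iff.2 fun e =>
      (IsLocalRing.maximalIdeal.isMaximal (X.presheaf.stalk ξ)).ne_top (by simpa [mX] using e)
    haveI : IsLocalRing (X.presheaf.stalk ξ ⧸ mX) := IsLocalRing.of_surjective' _ Ideal.Quotient.mk_surjective
    haveI : IsLocalHom (Ideal.Quotient.mk mX) := IsLocalHom.of_surjective _ Ideal.Quotient.mk_surjective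
    refine ⟨i, w (IsLocalRing.closedPoint (X.presheaf.stalk ξ ⧸ mX)), ?_⟩
    change (w ≫ x i) (IsLocalRing.closedPoint _) = ξ
    rw [hw]
    show X.fromSpecStalk ξ (Spec.map _ (IsLocalRing.closedPoint _)) = ξ
    rw [Spec_closedPoint]
    exact Scheme.fromSpecStalk_closedPoint
  have hci : ∀ j, i₀ ≤ j → IsClosedImmersion (x j) := fun j hj => by
    haveI := hx j
    refine IsClosedImmersion.of_isPreimmersion _ ?_
    rw [show Set.range (x j) = Set.univ from Set.univ_subset_iff.1 (hi₀ ▸ hrange i₀ j hj)]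
    exact isClosed_univ
  choose ii hii0 hii using exists_ideal_eq_bot f Xi x hmono h i₀ hci
  obtain ⟨s, hs, hcov⟩ : ∃ s : Set X.affineOpens, s.Finite ∧ (⋃ U ∈ s, (U.1 : Set X)) = Set.univ := by
    obtain ⟨s, hs⟩ := isCompact_univ.elim_finite_subcover (fun U : X.affineOpens => (U.1 : Set X)) (fun U => U.1.2)
      fun y _ => by
        obtain ⟨U, hU, hy, -⟩ := exists_isAffineOpen_mem_and_subset (X := X) (x := y) (U := ⊤) trivial
        exact Set.mem_iUnion.2 ⟨⟨U, hU⟩, hy⟩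
    exact ⟨(s : Set _), s.finite_toSet, Set.univ_subset_iff.1 (by simpa using hs)⟩
  obtain ⟨l, hl⟩ := (hs.image ii).toFinset.exists_le
  obtain ⟨m, hlm, h0m⟩ := directed_of (fun a b => a ≤ b) l i₀
  haveI := hci m h0m
  refine ⟨m, IsClosedImmersion.isIso_iff_ker_eq_bot.2 ?_⟩
  refine Scheme.IdealSheafData.ext_of_iSup_eq_top (fun U : s => U.1) ?_ fun U => ?_
  · refine eq_top_iff.2 fun y _ => ?_
    have hy : y ∈ ⋃ U ∈ s, (U.1 : Set X) := hcov ▸ trivial
    obtain ⟨U, hU, hyU⟩ := Set.mem_iUnion₂.1 hy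
    exact Opens.mem_iSup.2 ⟨⟨U, hU⟩, hyU⟩
  · have hle : ii U.1 ≤ m := (hl _ ((hs.image ii).mem_toFinset.2 ⟨U.1, U.2, rfl⟩)).trans hlm
    obtain ⟨t, ht⟩ := hmono _ _ hle
    haveI := hci (ii U.1) (hii0 U.1)
    have h1 : (x m).ker ≤ (x (ii U.1)).ker := by rw [← ht]; exact Scheme.Hom.le_ker_comp _ _
    rw [Scheme.IdealSheafData.ideal_bot, Pi.bot_apply]
    exact le_bot_iff.1 ((h1 U.1).trans (hii U.1).le)

end Groth.Agent.FiltSub

end
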